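import Mathlib
import Cfsg.Agent.Lib.ZStar.RankOne

/-!
# Brauer–Suzuki
-/

set_option autoImplicit false
set_option linter.style.haveILetI false

namespace Cfsg.Lib.ZStar

universe u

theorem quaternion_sq_eq_one {m : ℕ} [NeZero m] {q : QuaternionGroup m} (h : q ^ 2 = 1) :
    q = 1 ∨ q = QuaternionGroup.a (m : ZMod (2 * m)) := by
  haveI : NeZero (2 * m) := ⟨by have := NeZero.ne m; omega⟩
  rcases q with i | i
  · rw [sq, QuaternionGroup.a_mul_a, QuaternionGroup.one_def, QuaternionGroup.a.injEq] at h
    have h1 : 2 * m ∣ 2 * i.val := by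
      rw [← ZMod.natCast_eq_zero_iff, Nat.cast_mul, ZMod.natCast_zmod_val]
      rw [show ((2 : ℕ) : ZMod (2 * m)) * i = i + i by push_cast; ring]
      exact h
    have h2 : m ∣ i.val := Nat.dvd_of_mul_dvd_mul_left two_pos h1
    have h3 := i.val_lt
    obtain ⟨c, hc⟩ := h2
    have hc2 : c < 2 := by
      by_contra hge; push Not at hge
      have : m * 2 ≤ m * c := Nat.mul_le_mul_left m hge
      omega
    interval_cases c
    · left
      rw [QuaternionGroup.one_def]; congr 1
      rw [← ZMod.natCast_zmod_val i, hc]; simp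
    · right
      congr 1
      rw [← ZMod.natCast_zmod_val i, hc]; simp
  · exfalso
    rw [sq, QuaternionGroup.xa_mul_xa, QuaternionGroup.one_def, QuaternionGroup.a.injEq,
      add_sub_cancel_right, ZMod.natCast_eq_zero_iff] at h
    have := Nat.le_of_dvd (Nat.pos_of_ne_zero (NeZero.ne m)) h
    have := NeZero.ne m
    omega

theorem quaternion_central_sq {m : ℕ} (hm : 2 ≤ m) {q : QuaternionGroup m}
    (h : ∀ x : QuaternionGroup m, x * q = q * x) : q ^ 2 = 1 := by
  haveI : NeZero m := ⟨by omega⟩
  rcases q with i | i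
  · have := h (QuaternionGroup.xa 0)
    rw [QuaternionGroup.xa_mul_a, QuaternionGroup.a_mul_xa, QuaternionGroup.xa.injEq, zero_add, zero_sub] at this
    rw [sq, QuaternionGroup.a_mul_a, QuaternionGroup.one_def]
    congr 1
    nth_rewrite 1 [this]
    exact neg_add_cancel i
  · exfalso
    have := h (QuaternionGroup.a 1)
    rw [QuaternionGroup.a_mul_xa, QuaternionGroup.xa_mul_a, QuaternionGroup.xa.injEq, sub_eq_add_neg,
      add_right_inj, neg_eq_iff_add_eq_zero] at this
    rw [show (1 : ZMod (2 * m)) + 1 = ((2 : ℕ) : ZMod (2 * m)) by norm_num, ZMod.natCast_eq_zero_iff] at this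
    have := Nat.le_of_dvd two_pos this
    omega

variable {G : Type u} [Group G] [Finite G]

theorem oddCore_eq_bot (hO : ∀ N : Subgroup G, N.Normal → Odd (Nat.card N) → N = ⊥) :
    Cfsg.oddCore G = ⊥ :=
  hO _ inferInstance ((odd_card_iff_coprime _).mpr (Cfsg.Lib.Solv.coprime_pPrimeCore 2))

/-- Brauer–Suzuki: the centre has order 2. -/
theorem card_center_of_quaternion (S : Sylow 2 G) {m : ℕ} (hm : 2 ≤ m)
    (e : (S : Subgroup G) ≃* QuaternionGroup m)
    (hO : ∀ N : Subgroup G, N.Normal → Odd (Nat.card N) → N = ⊥) :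
    Nat.card (Subgroup.center G) = 2 := by
  haveI : Fact (Nat.Prime 2) := ⟨Nat.prime_two⟩
  haveI : NeZero m := ⟨by omega⟩
  haveI := Fintype.ofFinite G
  set t : (S : Subgroup G) := e.symm (QuaternionGroup.a (m : ZMod (2 * m)))
  have hord : ∀ s : (S : Subgroup G), orderOf (e s) = orderOf (s : G) := fun s => by
    rw [MulEquiv.orderOf_eq, Subgroup.orderOf_coe]
  have hsq : ∀ s : G, s ∈ S → s ^ 2 = 1 → s = 1 ∨ s = (t : G) := by
    intro s hs h
    have h1 : e ⟨s, hs⟩ ^ 2 = 1 := by
      rw [← map_pow, show (⟨s, hs⟩ : (S : Subgroup G)) ^ 2 = 1 from Subtype.ext h, map_one]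
    rcases quaternion_sq_eq_one h1 with h2 | h2
    · exact Or.inl (congrArg Subtype.val ((map_eq_one_iff e e.injective).mp h2))
    · exact Or.inr (congrArg Subtype.val (show (⟨s, hs⟩ : (S : Subgroup G)) = t by
        simp only [t, ← h2, MulEquiv.symm_apply_apply]))
  have ht : orderOf (t : G) = 2 := by
    rw [← hord t, MulEquiv.apply_symm_apply]
    haveI : NeZero (2 * m) := ⟨by omega⟩
    refine orderOf_eq_prime ?_ ?_
    · rw [sq, QuaternionGroup.a_mul_a, QuaternionGroup.one_def, ← Nat.cast_add, ← two_mul, ZMod.natCast_self]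
    · rw [QuaternionGroup.one_def, Ne, QuaternionGroup.a.injEq, ZMod.natCast_eq_zero_iff]
      intro h
      have := Nat.le_of_dvd (by omega) h
      omega
  have huniq : ∀ s : G, s ∈ S → orderOf s = 2 → s = t := by
    intro s hs h
    refine (hsq s hs (h ▸ pow_orderOf_eq_one s)).resolve_left fun e1 => ?_
    simp [e1] at h
  have hiso := isolated_of_unique S ht t.2 huniq
  have hO' := oddCore_eq_bot hO
  have htc : (t : G) ∈ Subgroup.center G := by
    refine Subgroup.mem_center_iff.mpr fun g => ?_
    have h := zstar hiso g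
    rw [hO', Subgroup.mem_bot, commute_iff_comm_mem_bot] at h
    exact h.eq.symm
  -- the centre is a 2-group
  have h2 : IsPGroup 2 (Subgroup.center G) := by
    intro g
    obtain ⟨k, r, hr, hkr⟩ := Nat.exists_eq_pow_mul_and_not_dvd (orderOf_pos (g : G)).ne' 2 (by norm_num)
    refine ⟨k, Subtype.ext ?_⟩
    rw [Subgroup.coe_pow, Subgroup.coe_one]
    set u := (g : G) ^ 2 ^ k
    have hu : orderOf u = r := by
      rw [orderOf_pow_of_dvd (by positivity) (hkr ▸ dvd_mul_right _ _), hkr,
        Nat.mul_div_cancel_left _ (by positivity)]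
    haveI : (Subgroup.zpowers u).Normal := ⟨fun x hx a => by
      rwa [Subgroup.mem_center_iff.mp ((Subgroup.zpowers_le.mpr (Subgroup.pow_mem _ g.2 _)) hx) a,
        mul_inv_cancel_right]⟩
    have := hO (Subgroup.zpowers u) inferInstance (by
      rw [Nat.card_zpowers, hu, ← Nat.not_even_iff_odd, even_iff_two_dvd]; exact hr)
    exact Subgroup.zpowers_eq_bot.mp this
  have hle : Subgroup.center G ≤ (S : Subgroup G) := by
    obtain ⟨T, hT⟩ := h2.exists_le_sylow
    obtain ⟨g, rfl⟩ := MulAction.exists_smul_eq G S T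
    intro c hc
    have h3 := conj_mem_sylow (hT hc)
    rwa [mul_assoc, ← Subgroup.mem_center_iff.mp hc g, inv_mul_cancel_left] at h3
  have heq : Subgroup.center G = Subgroup.zpowers (t : G) := by
    refine le_antisymm (fun c hc => ?_) (Subgroup.zpowers_le.mpr htc)
    have hc2 : c ^ 2 = 1 := by
      have h3 : e ⟨c, hle hc⟩ ^ 2 = 1 := quaternion_central_sq hm fun x => by
        obtain ⟨y, rfl⟩ := e.surjective x
        rw [← map_mul, ← map_mul]
        exact congrArg e (Subtype.ext (Subgroup.mem_center_iff.mp hc y))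
      rw [← map_pow, map_eq_one_iff e e.injective] at h3
      exact congrArg Subtype.val h3
    rcases hsq c (hle hc) hc2 with rfl | rfl
    · exact one_mem _
    · exact Subgroup.mem_zpowers _
  rw [heq, Nat.card_zpowers, ht]

/-- A group of even order and 2-rank one has an involution central modulo the odd core. -/
theorem exists_central_of_no_klein (heven : Even (Nat.card G))
    (hrank : ∀ E : Subgroup G, ¬ IsKleinFour E) :
    ∃ z : G, orderOf z = 2 ∧ ∀ g : G, z * g * z⁻¹ * g⁻¹ ∈ Cfsg.oddCore G := by
  haveI : Fact (Nat.Prime 2) := ⟨Nat.prime_two⟩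
  obtain ⟨P⟩ : Nonempty (Sylow 2 G) := inferInstance
  have hne : (P : Subgroup G) ≠ ⊥ := P.ne_bot_of_dvd_card (even_iff_two_dvd.mp heven)
  haveI : Nontrivial (P : Subgroup G) := (Subgroup.nontrivial_iff_ne_bot _).mpr hne
  have hcn : Nontrivial (Subgroup.center (P : Subgroup G)) := P.isPGroup'.center_nontrivial
  have hdvd : 2 ∣ Nat.card (Subgroup.center (P : Subgroup G)) := by
    obtain ⟨k, hk0, hk⟩ := (P.isPGroup'.to_subgroup (Subgroup.center (P : Subgroup G))).nontrivial_iff_card.mp hcn
    rw [hk]; exact dvd_pow_self 2 hk0.ne'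
  obtain ⟨w, hw⟩ := exists_prime_orderOf_dvd_card' 2 hdvd
  set t : G := ((w : (P : Subgroup G)) : G)
  have ht : orderOf t = 2 := by rw [Subgroup.orderOf_coe, Subgroup.orderOf_coe, hw]
  have htP : t ∈ P := (w : (P : Subgroup G)).2
  have huniq : ∀ s : G, s ∈ P → orderOf s = 2 → s = t := by
    intro s hs hso
    by_contra hne
    have hc : Commute t s :=
      congrArg Subtype.val (Subgroup.mem_center_iff.mp w.2 ⟨s, hs⟩).symm
    have htt : t * t = 1 := by rw [← sq, ← ht, pow_orderOf_eq_one]
    have hss : s * s = 1 := by rw [← sq, ← hso, pow_orderOf_eq_one]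
    have ht1 : t ≠ 1 := fun e => by simp [e] at ht
    have hs1 : s ≠ 1 := fun e => by simp [e] at hso
    have hts : t * s ≠ 1 := fun e => hne ((eq_inv_of_mul_eq_one_right e).trans (inv_eq_self_of_orderOf_two ht))
    have e1 : t * (t * s) = s := by rw [← mul_assoc, htt, one_mul]
    have e2 : s * t = t * s := hc.eq.symm
    have e3 : s * (t * s) = t := by rw [← mul_assoc, e2, mul_assoc, hss, mul_one]
    have e4 : t * s * t = s := by rw [mul_assoc, e2, e1]
    have e5 : t * s * s = t := by rw [mul_assoc, hss, mul_one]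
    have e6 : t * s * (t * s) = 1 := by rw [← mul_assoc, e4, hss]
    let E : Subgroup G :=
      { carrier := {1, t, s, t * s}
        one_mem' := by simp
        mul_mem' := by
          intro x y hx hy
          simp only [Set.mem_insert_iff, Set.mem_singleton_iff] at hx hy ⊢
          rcases hx with rfl | rfl | rfl | rfl <;> rcases hy with rfl | rfl | rfl | rfl <;>
            simp [htt, hss, e1, e2, e3, e4, e5, e6]
        inv_mem' := by
          intro x hx
          simp only [Set.mem_insert_iff, Set.mem_singleton_iff] at hx ⊢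
          rcases hx with rfl | rfl | rfl | rfl
          · simp
          · simp [inv_eq_self_of_orderOf_two ht]
          · simp [inv_eq_self_of_orderOf_two hso]
          · exact Or.inr (Or.inr (Or.inr (inv_eq_of_mul_eq_one_right e6))) }
    refine hrank E ⟨?_, ?_⟩
    · have hn1 : t * s ≠ t := fun e => hs1 (mul_eq_left.mp e)
      have hn2 : t * s ≠ s := fun e => ht1 (mul_eq_right.mp e)
      show Nat.card ({1, t, s, t * s} : Set G) = 4
      rw [Nat.card_coe_set_eq, Set.ncard_insert_of_notMem (by simp [ht1.symm, hs1.symm, hts.symm]),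
        Set.ncard_insert_of_notMem (by simp [Ne.symm hne, hn1.symm]),
        Set.ncard_insert_of_notMem (by simp [hn2.symm]), Set.ncard_singleton]
    · have hexp : ∀ x : E, x ^ 2 = 1 := by
        rintro ⟨x, hx⟩
        refine Subtype.ext ?_
        show x ^ 2 = 1
        rw [sq]
        rcases hx with rfl | rfl | rfl | rfl
        · simp
        · exact htt
        · exact hss
        · exact e6
      refine ((Nat.dvd_prime Nat.prime_two).mp (Monoid.exponent_dvd_of_forall_pow_eq_one hexp)).resolve_left
        fun e => ?_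
      haveI : Nontrivial E := ⟨⟨t, by show t ∈ ({1, t, s, t * s} : Set G); simp⟩, 1, fun e => ht1 (congrArg Subtype.val e)⟩
      exact not_subsingleton E (Monoid.exp_eq_one_iff.mp e)
  exact ⟨t, ht, zstar (isolated_of_unique P ht htP huniq)⟩

end Cfsg.Lib.ZStar
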