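import Mathlib
import Cfsg.Agent.Lib.ZStar.Klein

/-!
# Fusion of involutions with a Klein four Sylow subgroup, involution products
-/

set_option autoImplicit false
set_option linter.style.haveILetI false
set_option linter.unusedSectionVars false

namespace Cfsg.Lib.ZStar

open Finset
open scoped Classical

universe u

variable {G : Type u} [Group G] [Finite G]

/-- The four elements of a Klein four subgroup. -/
theorem klein_cases {P : Subgroup G} (hP : IsKleinFour P) {a b : G} (ha : a ∈ P) (hb : b ∈ P)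
    (ha1 : a ≠ 1) (hb1 : b ≠ 1) (hab : a ≠ b) :
    ∀ x ∈ P, x = 1 ∨ x = a ∨ x = b ∨ x = a * b := by
  intro x hx
  by_contra hh
  push Not at hh
  haveI := hP
  have h := IsKleinFour.eq_mul_of_ne_all (G := P) (x := ⟨a, ha⟩) (y := ⟨b, hb⟩) (z := ⟨x, hx⟩)
    (fun h => ha1 (congrArg Subtype.val h)) (fun h => hb1 (congrArg Subtype.val h))
    (fun h => hab (congrArg Subtype.val h)) (fun h => hh.1 (congrArg Subtype.val h))
    (fun h => hh.2.1 (congrArg Subtype.val h)) (fun h => hh.2.2.1 (congrArg Subtype.val h))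
  exact hh.2.2.2 (congrArg Subtype.val h)

theorem klein_commute {P : Subgroup G} (hP : IsKleinFour P) {a b : G} (ha : a ∈ P) (hb : b ∈ P) :
    a * b = b * a :=
  congrArg Subtype.val (mul_comm_of_exponent_two hP.exponent_two ⟨a, ha⟩ ⟨b, hb⟩)

theorem klein_sq {P : Subgroup G} (hP : IsKleinFour P) {a : G} (ha : a ∈ P) : a * a = 1 := by
  have := Monoid.pow_exponent_eq_one (⟨a, ha⟩ : P)
  rw [hP.exponent_two, sq] at this
  exact congrArg Subtype.val this

theorem klein_orderOf {P : Subgroup G} (hP : IsKleinFour P) {a : G} (ha : a ∈ P) (ha1 : a ≠ 1) :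
    orderOf a = 2 :=
  orderOf_eq_prime (by rw [sq]; exact klein_sq hP ha) ha1

/-- The centraliser of an involution of a Klein four Sylow subgroup. -/
theorem klein_centralizer (P : Sylow 2 G) (hP : IsKleinFour (P : Subgroup G)) {t : G}
    (ht : orderOf t = 2) (htP : t ∈ P) :
    (Cfsg.pPrimeCore 2 (Subgroup.centralizer ({t} : Set G))).index = 4 ∧
      ∀ y : Subgroup.centralizer ({t} : Set G), Odd (orderOf y) →
        y ∈ Cfsg.pPrimeCore 2 (Subgroup.centralizer ({t} : Set G)) := by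
  haveI : Fact (Nat.Prime 2) := ⟨Nat.prime_two⟩
  set C := Subgroup.centralizer ({t} : Set G)
  have hPC : (P : Subgroup G) ≤ C := fun a ha => Subgroup.mem_centralizer_singleton_iff.mpr
    (klein_commute hP ha htP)
  have hKC : IsKleinFour ((P.subtype hPC : Sylow 2 C) : Subgroup C) := by
    rw [Sylow.coe_subtype]
    exact ⟨(Nat.card_congr (Subgroup.subgroupOfEquivOfLe hPC).toEquiv).trans hP.card_four,
      (Monoid.exponent_eq_of_mulEquiv (Subgroup.subgroupOfEquivOfLe hPC)).trans hP.exponent_two⟩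
  exact core_of_central_klein (P.subtype hPC) hKC (t := ⟨t, Subgroup.mem_centralizer_singleton_iff.mpr rfl⟩)
    (by rw [Subgroup.orderOf_mk, ht]) htP
    (Subgroup.mem_center_iff.mpr fun g => Subtype.ext (Subgroup.mem_centralizer_singleton_iff.mp g.2))

/-- A normalising element fixing an involution centralises the Sylow subgroup. -/
theorem klein_fix (P : Sylow 2 G) (hP : IsKleinFour (P : Subgroup G)) {n t : G}
    (hn : n ∈ Subgroup.normalizer (P : Set G)) (ht : orderOf t = 2) (htP : t ∈ P)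
    (hnt : n * t * n⁻¹ = t) {a : G} (ha : a ∈ P) : n * a * n⁻¹ = a := by
  haveI : Fact (Nat.Prime 2) := ⟨Nat.prime_two⟩
  obtain ⟨hidx, -⟩ := klein_centralizer P hP ht htP
  set C := Subgroup.centralizer ({t} : Set G)
  set O := Cfsg.pPrimeCore 2 C
  have hPC : ∀ x ∈ P, x ∈ C := fun x hx => Subgroup.mem_centralizer_singleton_iff.mpr
    (klein_commute hP hx htP)
  have hnC : n ∈ C := Subgroup.mem_centralizer_singleton_iff.mpr (mul_inv_eq_iff_eq_mul.mp hnt)
  have hb := (Subgroup.mem_normalizer_iff.mp hn a).mp ha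
  have hcard : Nat.card (C ⧸ O) = 2 ^ 2 := by rw [← Subgroup.index, hidx]; norm_num
  have hc : ∀ x y : C ⧸ O, x * y = y * x := (IsPGroup.commGroupOfCardEqPrimeSq hcard).mul_comm
  have hmem : (⟨n * a * n⁻¹ * a⁻¹, Subgroup.mul_mem _ (hPC _ hb) (Subgroup.inv_mem _ (hPC a ha))⟩ : C) ∈ O := by
    rw [← QuotientGroup.eq_one_iff, show (⟨n * a * n⁻¹ * a⁻¹, Subgroup.mul_mem _ (hPC _ hb)
        (Subgroup.inv_mem _ (hPC a ha))⟩ : C) = (⟨n, hnC⟩ : C) * ⟨a, hPC a ha⟩ * (⟨n, hnC⟩ : C)⁻¹ *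
        (⟨a, hPC a ha⟩ : C)⁻¹ from rfl, QuotientGroup.mk_mul, QuotientGroup.mk_mul, QuotientGroup.mk_mul,
      hc ((⟨n, hnC⟩ : C) : C ⧸ O), QuotientGroup.mk_inv, QuotientGroup.mk_inv, mul_inv_cancel_right,
      mul_inv_cancel]
  have hdvd := Subgroup.orderOf_dvd_natCard _ hmem
  have hq : n * a * n⁻¹ * a⁻¹ ∈ (P : Subgroup G) := mul_mem hb (inv_mem ha)
  refine mul_inv_eq_one.mp ?_
  by_contra hne
  rw [Subgroup.orderOf_mk, klein_orderOf hP hq hne] at hdvd
  exact (Nat.prime_two.coprime_iff_not_dvd.mp (Cfsg.Lib.Solv.coprime_pPrimeCore 2).symm) hdvd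

/-- Without a normal 2-complement there is one class of involutions. -/
theorem klein_one_class (P : Sylow 2 G) (hP : IsKleinFour (P : Subgroup G))
    (hnc : ¬ ∃ N : Subgroup G, N.Normal ∧ N.index = 4) :
    ∀ s t : G, orderOf s = 2 → orderOf t = 2 → IsConj s t := by
  haveI : Fact (Nat.Prime 2) := ⟨Nat.prime_two⟩
  haveI : IsMulCommutative (P : Subgroup G) := ⟨⟨mul_comm_of_exponent_two hP.exponent_two⟩⟩
  obtain ⟨n, hn, a, haP, hna⟩ : ∃ n ∈ Subgroup.normalizer (P : Set G), ∃ a ∈ (P : Subgroup G),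
      n * a * n⁻¹ ≠ a := by
    by_contra hh
    push Not at hh
    have hle : Subgroup.normalizer (P : Set G) ≤ Subgroup.centralizer (P : Set G) := fun n hn =>
      Subgroup.mem_centralizer_iff.mpr fun a ha => (mul_inv_eq_iff_eq_mul.mp (hh n hn a ha)).symm
    refine hnc ⟨_, (inferInstance : (MonoidHom.transferSylow P hle).ker.Normal), ?_⟩
    rw [(MonoidHom.ker_transferSylow_isComplement' P hle).symm.index_eq_card]
    exact hP.card_four
  have ha1 : a ≠ 1 := by rintro rfl; simp at hna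
  set b := n * a * n⁻¹ with hbdef
  have hbP : b ∈ (P : Subgroup G) := (Subgroup.mem_normalizer_iff.mp hn a).mp haP
  have hb1 : b ≠ 1 := fun e => ha1 (conj_eq_one_iff.mp e)
  have habP : a * b ∈ (P : Subgroup G) := mul_mem haP hbP
  have hab1 : a * b ≠ 1 := fun e => hna ((mul_eq_one_iff_eq_inv.mp e).trans
    (inv_eq_of_mul_eq_one_right (klein_sq hP hbP))).symm
  have hcases := klein_cases hP haP hbP ha1 hb1 (Ne.symm hna)
  have hcP := (Subgroup.mem_normalizer_iff.mp hn b).mp hbP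
  have hc : n * b * n⁻¹ = a * b := by
    rcases hcases _ hcP with e | e | e | e
    · exact absurd (conj_eq_one_iff.mp e) hb1
    · exfalso
      have hfix : n * (a * b) * n⁻¹ = a * b := by
        calc n * (a * b) * n⁻¹ = n * a * n⁻¹ * (n * b * n⁻¹) := by group
          _ = b * a := by rw [e]
          _ = a * b := klein_commute hP hbP haP
      exact hna (klein_fix P hP hn (klein_orderOf hP habP hab1) habP hfix haP)
    · exact absurd (klein_fix P hP hn (klein_orderOf hP hbP hb1) hbP e haP) hna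
    · exact e
  have hall : ∀ x ∈ (P : Subgroup G), x ≠ 1 → IsConj a x := by
    intro x hx hx1
    rcases hcases x hx with rfl | rfl | rfl | rfl
    · exact absurd rfl hx1
    · exact IsConj.refl _
    · exact isConj_iff.mpr ⟨n, rfl⟩
    · exact (isConj_iff.mpr ⟨n, rfl⟩ : IsConj a b).trans (isConj_iff.mpr ⟨n, hc⟩)
  have hto : ∀ s : G, orderOf s = 2 → IsConj a s := by
    intro s hs
    obtain ⟨Q, hQ⟩ := (IsPGroup.of_card (n := 1)
      (show Nat.card (Subgroup.zpowers s) = 2 ^ 1 by rw [Nat.card_zpowers, hs, pow_one])).exists_le_sylow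
    obtain ⟨g, rfl⟩ := MulAction.exists_smul_eq G P Q
    have h1 := hQ (Subgroup.mem_zpowers s)
    rw [Sylow.coe_subgroup_smul, Subgroup.mem_pointwise_smul_iff_inv_smul_mem, MulAut.smul_def,
      ← map_inv, MulAut.conj_apply, inv_inv] at h1
    have hne : g⁻¹ * s * g ≠ 1 := fun e => by
      have : s = 1 := conj_eq_one_iff.mp (show g⁻¹ * s * (g⁻¹)⁻¹ = 1 by rwa [inv_inv])
      simp [this] at hs
    exact (hall _ h1 hne).trans (isConj_iff.mpr ⟨g, by group⟩)
  exact fun s t hs ht => (hto s hs).symm.trans (hto t ht)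

end Cfsg.Lib.ZStar

namespace Cfsg.Lib.ZStar

open Finset
open scoped Classical

universe v

variable {G : Type v} [Group G] [Fintype G]

theorem orderOf_conjugate' {g a : G} : orderOf (g * a * g⁻¹) = orderOf a := by
  simpa using orderOf_injective (MulAut.conj g).toMonoidHom (MulAut.conj g).injective a

/-- The conjugates of `x` under the centraliser of `t`. -/
noncomputable def centOrbit (t x : G) : Finset G :=
  univ.filter fun a => ∃ c : G, c * t = t * c ∧ c * x * c⁻¹ = a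

/-- Orbit-stabiliser for `centOrbit`. -/
theorem card_centOrbit (t x : G) :
    #(centOrbit t x) * Nat.card (Subgroup.centralizer ({t, x} : Set G)) =
      Nat.card (Subgroup.centralizer ({t} : Set G)) := by
  set C := univ.filter fun c : G => c * t = t * c
  have hC : Nat.card (Subgroup.centralizer ({t} : Set G)) = #C :=
    Nat.subtype_card C fun c => by simp [C, Subgroup.mem_centralizer_singleton_iff]
  set S := univ.filter fun c : G => c * t = t * c ∧ c * x = x * c
  have hS : Nat.card (Subgroup.centralizer ({t, x} : Set G)) = #S :=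
    Nat.subtype_card S fun c => by
      simp only [S, mem_filter, mem_univ, true_and, Subgroup.mem_centralizer_iff,
        Set.mem_insert_iff, Set.mem_singleton_iff, forall_eq_or_imp, forall_eq]
      exact ⟨fun h => ⟨h.1.symm, h.2.symm⟩, fun h => ⟨h.1.symm, h.2.symm⟩⟩
  rw [hC, hS, Finset.card_eq_sum_card_image (fun c => c * x * c⁻¹) C]
  have himg : centOrbit t x = C.image fun c => c * x * c⁻¹ := by
    ext a
    simp [centOrbit, C]
  rw [himg, ← smul_eq_mul, ← Finset.sum_const]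
  refine Finset.sum_congr rfl fun a ha => ?_
  obtain ⟨c, hc, rfl⟩ := Finset.mem_image.mp ha
  have hct : Commute c t := (Finset.mem_filter.mp hc).2
  refine Finset.card_bij (fun s _ => c * s) (fun s hs => ?_) (fun _ _ _ _ h => mul_left_cancel h)
    (fun d hd => ?_)
  · obtain ⟨h1, h2⟩ := (Finset.mem_filter.mp hs).2
    refine Finset.mem_filter.mpr ⟨Finset.mem_filter.mpr ⟨mem_univ _, hct.mul_left h1⟩, ?_⟩
    rw [mul_assoc c s, h2, mul_inv_rev, show c * (x * s) * (s⁻¹ * c⁻¹) = c * x * c⁻¹ by group]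
  · obtain ⟨hd1, hd2⟩ := Finset.mem_filter.mp hd
    have hdt : Commute d t := (Finset.mem_filter.mp hd1).2
    refine ⟨c⁻¹ * d, Finset.mem_filter.mpr ⟨mem_univ _, hct.inv_left.mul_left hdt, ?_⟩, by group⟩
    calc c⁻¹ * d * x = c⁻¹ * (d * x * d⁻¹) * d := by group
      _ = c⁻¹ * (c * x * c⁻¹) * d := by rw [hd2]
      _ = x * (c⁻¹ * d) := by group

set_option maxHeartbeats 800000 in
/-- The pairs of involutions whose product lies in `J` times the odd elements of its centraliser. -/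
theorem card_invol_pairs (P : Sylow 2 G) (hP : IsKleinFour (P : Subgroup G)) {J t : G}
    (hJ : orderOf J = 2) (hJP : J ∈ P) (htP : t ∈ P) (ht1 : t ≠ 1) (htJ : t ≠ J) :
    ∑ y ∈ univ.filter (fun y : G => y * J = J * y ∧ Odd (orderOf y)),
      #(univ.filter fun a : G => orderOf a = 2 ∧ orderOf (a⁻¹ * (J * y)) = 2) =
      #(centOrbit J t) * #(centOrbit J (J * t)) + #(centOrbit J (J * t)) * #(centOrbit J t) := by
  haveI : Fact (Nat.Prime 2) := ⟨Nat.prime_two⟩
  obtain ⟨hidx, hodd⟩ := klein_centralizer P hP hJ hJP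
  set C := Subgroup.centralizer ({J} : Set G)
  set O := Cfsg.pPrimeCore 2 C
  have hOodd : ∀ c : C, c ∈ O ↔ Odd (orderOf c) := fun c => ⟨fun h => Odd.of_dvd_nat
    (Nat.coprime_two_right.mp (Cfsg.Lib.Solv.coprime_pPrimeCore 2)) (Subgroup.orderOf_dvd_natCard _ h), hodd c⟩
  have hJ1 : J ≠ 1 := by rintro rfl; simp at hJ
  set u := J * t
  have huP : u ∈ (P : Subgroup G) := mul_mem hJP htP
  have hu1 : u ≠ 1 := fun e => htJ (by
    rw [← inv_eq_of_mul_eq_one_right e, inv_eq_of_mul_eq_one_right (klein_sq hP hJP)])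
  have hu : orderOf u = 2 := klein_orderOf hP huP hu1
  have ht : orderOf t = 2 := klein_orderOf hP htP ht1
  have hcases := klein_cases hP hJP htP hJ1 ht1 (Ne.symm htJ)
  have hPC : (P : Subgroup G) ≤ C := fun x hx => Subgroup.mem_centralizer_singleton_iff.mpr
    (klein_commute hP hx hJP)
  have hCmem : ∀ {c : G}, c * J = J * c → c ∈ C := fun h => Subgroup.mem_centralizer_singleton_iff.mpr h
  have hsub : ∀ {c : C}, (c : G) * J = J * c := fun {c} => Subgroup.mem_centralizer_singleton_iff.mp c.2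
  -- the image in the four group
  have himgP : ∀ x (hx : x ∈ (P : Subgroup G)), ((⟨x, hPC hx⟩ : C) : C ⧸ O) = 1 → x = 1 := by
    intro x hx e
    rw [QuotientGroup.eq_one_iff, hOodd, Subgroup.orderOf_mk] at e
    by_contra hne
    rw [klein_orderOf hP hx hne] at e
    exact absurd e (by decide)
  have hcomm : ∀ x y : C ⧸ O, x * y = y * x :=
    (IsPGroup.commGroupOfCardEqPrimeSq (p := 2) (show Nat.card (C ⧸ O) = 2 ^ 2 by
      rw [← Subgroup.index, hidx]; norm_num)).mul_comm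
  have hpi : ∀ x a : G, (∃ c : G, c * J = J * c ∧ c * x * c⁻¹ = a) → ∀ (hx : x ∈ C) (ha : a ∈ C),
      ((⟨a, ha⟩ : C) : C ⧸ O) = ((⟨x, hx⟩ : C) : C ⧸ O) := by
    rintro x a ⟨c, hc, rfl⟩ hx ha
    rw [show (⟨c * x * c⁻¹, ha⟩ : C) = ⟨c, hCmem hc⟩ * ⟨x, hx⟩ * (⟨c, hCmem hc⟩ : C)⁻¹ from rfl,
      QuotientGroup.mk_mul, QuotientGroup.mk_mul, QuotientGroup.mk_inv, hcomm ((⟨c, hCmem hc⟩ : C) : C ⧸ O),
      mul_inv_cancel_right]
  have horb : ∀ a : C, orderOf a = 2 → (a : G) = J ∨ (a : G) ∈ centOrbit J t ∨ (a : G) ∈ centOrbit J u := by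
    intro a ha
    obtain ⟨Q, hQ⟩ := (IsPGroup.of_card (n := 1)
      (show Nat.card (Subgroup.zpowers a) = 2 ^ 1 by rw [Nat.card_zpowers, ha, pow_one])).exists_le_sylow
    obtain ⟨g, rfl⟩ := MulAction.exists_smul_eq C (P.subtype hPC) Q
    have h1 := hQ (Subgroup.mem_zpowers a)
    rw [Sylow.coe_subgroup_smul, Subgroup.mem_pointwise_smul_iff_inv_smul_mem, MulAut.smul_def,
      ← map_inv, MulAut.conj_apply, inv_inv, Sylow.coe_subtype, Subgroup.mem_subgroupOf] at h1
    simp only [Subgroup.coe_mul, Subgroup.coe_inv] at h1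
    rcases hcases _ h1 with e | e | e | e
    · exfalso
      have e' : g⁻¹ * a * (g⁻¹)⁻¹ = 1 := by rw [inv_inv]; exact Subtype.ext e
      rw [conj_eq_one_iff.mp e', orderOf_one] at ha
      norm_num at ha
    · left
      calc (a : G) = (g : G) * ((g : G)⁻¹ * a * g) * (g : G)⁻¹ := by group
        _ = J := by rw [e, hsub, mul_inv_cancel_right]
    · exact Or.inr (Or.inl (Finset.mem_filter.mpr ⟨mem_univ _, g, hsub, by rw [← e]; group⟩))
    · exact Or.inr (Or.inr (Finset.mem_filter.mpr ⟨mem_univ _, g, hsub, by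
        rw [show u = (g : G)⁻¹ * a * g from e.symm]; group⟩))
  have hmem : ∀ x, ∀ hx : x ∈ (P : Subgroup G), x ≠ 1 → ∀ a ∈ centOrbit J x, ∃ ha : a ∈ C,
      orderOf a = 2 ∧ ((⟨a, ha⟩ : C) : C ⧸ O) = ((⟨x, hPC hx⟩ : C) : C ⧸ O) := by
    intro x hx hx1 a ha
    obtain ⟨c, hc, rfl⟩ := (Finset.mem_filter.mp ha).2
    have h2 : c * x * c⁻¹ ∈ C := mul_mem (mul_mem (hCmem hc) (hPC hx)) (inv_mem (hCmem hc))
    exact ⟨h2, by rw [orderOf_conjugate']; exact klein_orderOf hP hx hx1, hpi x _ ⟨c, hc, rfl⟩ _ h2⟩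
  set J' : C := ⟨J, hPC hJP⟩
  set t' : C := ⟨t, hPC htP⟩
  set u' : C := ⟨u, hPC huP⟩
  have hqJ : (J' : C ⧸ O) ≠ 1 := fun e => hJ1 (himgP J hJP e)
  have hqt : (t' : C ⧸ O) ≠ 1 := fun e => ht1 (himgP t htP e)
  have hqu : (u' : C ⧸ O) ≠ 1 := fun e => hu1 (himgP u huP e)
  have htu : (J' : C ⧸ O) * (t' : C ⧸ O) = (u' : C ⧸ O) := by rw [← QuotientGroup.mk_mul]; rfl
  have hqq : ∀ x (hx : x ∈ (P : Subgroup G)),
      ((⟨x, hPC hx⟩ : C) : C ⧸ O) * ((⟨x, hPC hx⟩ : C) : C ⧸ O) = 1 := by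
    intro x hx
    rw [← QuotientGroup.mk_mul, show (⟨x, hPC hx⟩ : C) * ⟨x, hPC hx⟩ = 1 from Subtype.ext (klein_sq hP hx)]
    rfl
  have hdisj : Disjoint (centOrbit J t ×ˢ centOrbit J u) (centOrbit J u ×ˢ centOrbit J t) := by
    rw [Finset.disjoint_left]
    rintro ⟨a, b⟩ h1 h2
    obtain ⟨ha, -, e1⟩ := hmem t htP ht1 a (Finset.mem_product.mp h1).1
    obtain ⟨_, -, e2⟩ := hmem u huP hu1 a (Finset.mem_product.mp h2).1
    refine hqJ ?_
    have e3 : (u' : C ⧸ O) = (t' : C ⧸ O) := e2.symm.trans e1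
    rw [← htu] at e3
    exact mul_eq_right.mp e3
  rw [← Finset.card_sigma, ← Finset.card_product, ← Finset.card_product, ← Finset.card_union_of_disjoint hdisj]
  refine Finset.card_bij (fun q _ => (q.2, q.2⁻¹ * (J * q.1))) ?_ ?_ ?_
  · rintro ⟨y, a⟩ hq
    obtain ⟨hy, hya⟩ := Finset.mem_sigma.mp hq
    obtain ⟨hyJ, hyo⟩ := (Finset.mem_filter.mp hy).2
    obtain ⟨ha, hb⟩ := (Finset.mem_filter.mp hya).2
    simp only at ha hb ⊢
    set b := a⁻¹ * (J * y) with hbdef
    have haa : a * a = 1 := by rw [← sq, ← ha, pow_orderOf_eq_one]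
    have hbb : b * b = 1 := by rw [← sq, ← hb, pow_orderOf_eq_one]
    -- `a` inverts `J y`, hence centralises `J`
    have hinv : a * (J * y) * a⁻¹ = (J * y)⁻¹ := by
      rw [show J * y = a * b by rw [hbdef, mul_inv_cancel_left],
        mul_inv_rev, inv_eq_of_mul_eq_one_right haa, inv_eq_of_mul_eq_one_right hbb,
        ← mul_assoc, haa, one_mul]
    have hpow : (J * y) ^ orderOf y = J := by
      rw [(show Commute J y from hyJ.symm).mul_pow, pow_orderOf_eq_one, mul_one]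
      obtain ⟨i, hi⟩ := hyo
      rw [hi, pow_succ, pow_mul, sq, klein_sq hP hJP, one_pow, one_mul]
    have haJ : a * J * a⁻¹ = J := by
      conv_lhs => rw [← hpow, ← conj_pow, hinv, inv_pow, hpow, inv_eq_of_mul_eq_one_right (klein_sq hP hJP)]
    have haC : a ∈ C := hCmem (mul_inv_eq_iff_eq_mul.mp haJ)
    have hbC : b ∈ C := mul_mem (inv_mem haC) (mul_mem (hPC hJP) (hCmem hyJ))
    have hprod : ((⟨a, haC⟩ : C) : C ⧸ O) * ((⟨b, hbC⟩ : C) : C ⧸ O) = (J' : C ⧸ O) := by
      have hy1 : ((⟨y, hCmem hyJ⟩ : C) : C ⧸ O) = 1 :=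
        (QuotientGroup.eq_one_iff _).mpr ((hOodd _).mpr (by rw [Subgroup.orderOf_mk]; exact hyo))
      rw [← QuotientGroup.mk_mul, show (⟨a, haC⟩ : C) * ⟨b, hbC⟩ = J' * ⟨y, hCmem hyJ⟩ from
        Subtype.ext (mul_inv_cancel_left a (J * y)), QuotientGroup.mk_mul, hy1, mul_one]
    rcases horb ⟨a, haC⟩ (by rw [Subgroup.orderOf_mk]; exact ha) with e | e | e <;>
    rcases horb ⟨b, hbC⟩ (by rw [Subgroup.orderOf_mk]; exact hb) with e' | e' | e'
    · rw [show (⟨a, haC⟩ : C) = J' from Subtype.ext e, show (⟨b, hbC⟩ : C) = J' from Subtype.ext e',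
        hqq J hJP] at hprod
      exact absurd hprod.symm hqJ
    · obtain ⟨_, -, q2⟩ := hmem t htP ht1 b e'
      rw [show (⟨a, haC⟩ : C) = J' from Subtype.ext e, q2, mul_eq_left] at hprod
      exact absurd hprod hqt
    · obtain ⟨_, -, q2⟩ := hmem u huP hu1 b e'
      rw [show (⟨a, haC⟩ : C) = J' from Subtype.ext e, q2, mul_eq_left] at hprod
      exact absurd hprod hqu
    · obtain ⟨_, -, q1⟩ := hmem t htP ht1 a e
      rw [show (⟨b, hbC⟩ : C) = J' from Subtype.ext e', q1, mul_eq_right] at hprod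
      exact absurd hprod hqt
    · obtain ⟨_, -, q1⟩ := hmem t htP ht1 a e
      obtain ⟨_, -, q2⟩ := hmem t htP ht1 b e'
      rw [q1, q2, hqq t htP] at hprod
      exact absurd hprod.symm hqJ
    · exact Finset.mem_union_left _ (Finset.mem_product.mpr ⟨e, e'⟩)
    · obtain ⟨_, -, q1⟩ := hmem u huP hu1 a e
      rw [show (⟨b, hbC⟩ : C) = J' from Subtype.ext e', q1, mul_eq_right] at hprod
      exact absurd hprod hqu
    · exact Finset.mem_union_right _ (Finset.mem_product.mpr ⟨e, e'⟩)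
    · obtain ⟨_, -, q1⟩ := hmem u huP hu1 a e
      obtain ⟨_, -, q2⟩ := hmem u huP hu1 b e'
      rw [q1, q2, hqq u huP] at hprod
      exact absurd hprod.symm hqJ
  · rintro ⟨y, a⟩ _ ⟨y', a'⟩ _ h
    simp only [Prod.mk.injEq] at h
    obtain ⟨rfl, h⟩ := h
    rw [mul_right_inj, mul_right_inj] at h
    subst h
    rfl
  · rintro ⟨a, b⟩ hab
    have key : ∃ (haC : a ∈ C) (hbC : b ∈ C), orderOf a = 2 ∧ orderOf b = 2 ∧
        ((⟨a, haC⟩ : C) : C ⧸ O) * ((⟨b, hbC⟩ : C) : C ⧸ O) = (J' : C ⧸ O) := by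
      rcases Finset.mem_union.mp hab with h | h <;> obtain ⟨h1, h2⟩ := Finset.mem_product.mp h
      · obtain ⟨haC, ha, q1⟩ := hmem t htP ht1 a h1
        obtain ⟨hbC, hb, q2⟩ := hmem u huP hu1 b h2
        refine ⟨haC, hbC, ha, hb, ?_⟩
        rw [q1, q2]
        show (t' : C ⧸ O) * (u' : C ⧸ O) = _
        rw [← htu, hcomm (J' : C ⧸ O), ← mul_assoc, hqq t htP, one_mul]
      · obtain ⟨haC, ha, q1⟩ := hmem u huP hu1 a h1
        obtain ⟨hbC, hb, q2⟩ := hmem t htP ht1 b h2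
        refine ⟨haC, hbC, ha, hb, ?_⟩
        rw [q1, q2]
        show (u' : C ⧸ O) * (t' : C ⧸ O) = _
        rw [← htu, mul_assoc, hqq t htP, mul_one]
    obtain ⟨haC, hbC, ha, hb, hprod⟩ := key
    refine ⟨⟨J * (a * b), a⟩, Finset.mem_sigma.mpr ⟨?_, ?_⟩, ?_⟩
    · have hy : J' * (⟨a, haC⟩ * ⟨b, hbC⟩) ∈ O := by
        rw [← QuotientGroup.eq_one_iff, QuotientGroup.mk_mul, QuotientGroup.mk_mul, hprod]
        exact hqq J hJP
      refine Finset.mem_filter.mpr ⟨mem_univ _, hsub (c := J' * (⟨a, haC⟩ * ⟨b, hbC⟩)), ?_⟩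
      have := (hOodd _).mp hy
      rwa [← Subgroup.orderOf_coe] at this
    · refine Finset.mem_filter.mpr ⟨mem_univ _, ha, ?_⟩
      rw [← mul_assoc J J, klein_sq hP hJP, one_mul, inv_mul_cancel_left]
      exact hb
    · simp only
      rw [← mul_assoc J J, klein_sq hP hJP, one_mul, inv_mul_cancel_left]

end Cfsg.Lib.ZStar
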